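/-
The hyperfocal subgroup theorem for finite groups: the hyperfocal subgroup of `F_S(G)` is
`S ∩ O^p(G)`, and the `p`-residual subsystem of `F_S(G)` is the system of `O^p(G)`.
-/
import Cfsg.Agent.FusionPIndex.Basic
import Cfsg.Agent.FusionPIndex.Limit
import Cfsg.Agent.Fusion.Realized
import Cfsg.Prelude.Def_FusionComponents
import Mathlib.GroupTheory.Focal

set_option autoImplicit false

namespace CfsgLib.FusionResidual

open Cfsg Cfsg.FusionSystem CfsgLib.Fusion
open scoped commutatorElement

variable {Ω : Type*} [Group Ω] {S : Subgroup Ω} {p : ℕ}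

/-- The hyperfocal subgroup lies in `S`. -/
theorem hyperfocal_le (F : FusionSystem S) : F.hyperfocalSubgroup p ≤ S := by
  refine (Subgroup.closure_le _).2 ?_
  rintro y ⟨P, α, x, hP, -, rfl⟩
  exact S.mul_mem (S.inv_mem (hP x.2)) (hP ((α : MulAut P) x).2)

/-- The hyperfocal subgroup is normalized by `S`. -/
theorem hyperfocal_conj (F : FusionSystem S) {g : Ω} (hg : g ∈ S) {y : Ω}
    (hy : y ∈ F.hyperfocalSubgroup p) : g * y * g⁻¹ ∈ F.hyperfocalSubgroup p := by
  suffices h : F.hyperfocalSubgroup p ≤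
      (F.hyperfocalSubgroup p).comap (MulAut.conj g).toMonoidHom from h hy
  refine (Subgroup.closure_le _).2 ?_
  rintro _ ⟨P, α, x, hP, hα, rfl⟩
  let e := P.equivMapOfInjective (MulAut.conj g).toMonoidHom (MulAut.conj g).injective
  have he : IsIso F e := conj_mem' hP hg fun z => rfl
  let f : F.autGroup P →* F.autGroup (P.map (MulAut.conj g).toMonoidHom) :=
    { toFun := fun β => ⟨MulAut.congr e β, congr_mem_autGroup he β.2⟩
      map_one' := Subtype.ext (map_one (MulAut.congr e))
      map_mul' := fun a b => Subtype.ext (map_mul (MulAut.congr e) _ _) }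
  refine Subgroup.subset_closure ⟨_, f α, e x, ?_, CfsgLib.Transfer.map_pResidual_le f ⟨α, hα, rfl⟩,
    ?_⟩
  · rintro _ ⟨z, hz, rfl⟩
    exact S.mul_mem (S.mul_mem hg (hP hz)) (S.inv_mem hg)
  · show g * ((x : Ω)⁻¹ * ((α : MulAut P) x : Ω)) * g⁻¹ =
      (g * (x : Ω) * g⁻¹)⁻¹ * ((MulAut.congr e (α : MulAut P) (e x) : _) : Ω)
    rw [congr_apply]
    show _ = _ * (g * ((α : MulAut P) x : Ω) * g⁻¹)
    group

section focal

variable [Finite S] [Fact p.Prime]

/-- Modulo the hyperfocal subgroup and `[S, S]`, every map of a saturated system is the inclusion. -/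
theorem inv_mul_apply_mem (hS : IsPGroup p S) {F : FusionSystem S} (hF : F.IsSaturated p)
    {P : Subgroup Ω} {φ : P →* Ω} (hφ : φ ∈ F.Hom P) (x : P) :
    (x : Ω)⁻¹ * φ x ∈ F.hyperfocalSubgroup p ⊔ ⁅S, S⁆ := by
  set K := F.hyperfocalSubgroup p ⊔ ⁅S, S⁆
  let D : FusionSystem S :=
    { Hom := fun P => {φ | φ ∈ F.Hom P ∧ ∀ x : P, (x : Ω)⁻¹ * φ x ∈ K}
      le_of_mem := fun h => F.le_of_mem h.1
      injective_of_mem := fun h => F.injective_of_mem h.1
      conj_mem := fun {Q g} hQ hg => ⟨F.conj_mem hQ hg, fun z => by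
        show (z : Ω)⁻¹ * (g * z * g⁻¹) ∈ K
        refine Subgroup.mem_sup_right ?_
        have := Subgroup.commutator_mem_commutator (S.inv_mem (hQ z.2)) hg
        simpa [commutatorElement_def, mul_assoc] using this⟩
      comp_mem := fun {Q R φ ψ} hφ hψ h => ⟨F.comp_mem hφ.1 hψ.1 h, fun z => by
        have := K.mul_mem (hφ.2 z) (hψ.2 ⟨φ z, h z⟩)
        simpa [mul_assoc] using this⟩
      inv_mem := fun {Q φ} hφ => by
        obtain ⟨ψ, hψ, he⟩ := F.inv_mem hφ.1
        refine ⟨ψ, ⟨hψ, ?_⟩, he⟩
        rintro ⟨_, z, rfl⟩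
        rw [he z]
        have := K.inv_mem (hφ.2 z)
        simpa using this }
  have h : F.IsSubsystemOf D := by
    refine CfsgLib.FusionPIndex.isSubsystemOf_of_pResidual hS hF le_rfl fun Q hQ => ?_
    rintro _ ⟨α, hα, rfl⟩
    refine Subgroup.subset_closure ⟨(mem_autGroup_iff hQ).1 α.2, fun z => Subgroup.mem_sup_left ?_⟩
    exact Subgroup.subset_closure ⟨Q, α, z, hQ, hα, rfl⟩
  exact (h P hφ).2 x

end focal

variable {G : Type*} [Group G] [Finite G] [Fact p.Prime]

omit [Finite G] [Fact p.Prime] in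
theorem mem_normalizer_of_apply [Finite G] {P : Subgroup G} {g : G}
    (h : ∀ x ∈ P, g * x * g⁻¹ ∈ P) : g ∈ Subgroup.normalizer (P : Set G) :=
  mem_normalizer_of_conj_mem h

/-- The automorphisms of `P` in `F_S(G)` come from the normalizer of `P`. -/
theorem pResidual_autGroup_apply (S : Sylow p G) {P : Subgroup G} (hP : P ≤ (S : Subgroup G))
    {α : (groupFusionSystem (S : Subgroup G)).autGroup P}
    (hα : α ∈ pResidual p ((groupFusionSystem (S : Subgroup G)).autGroup P)) :
    ∃ g ∈ pResidual p G, ∀ x : P, (((α : MulAut P) x : P) : G) = g * x * g⁻¹ := by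
  let N := Subgroup.normalizer (P : Set G)
  have hmem : ∀ n : N, P.normalizerMonoidHom n ∈
      (groupFusionSystem (S : Subgroup G)).autGroup P := fun n =>
    Subgroup.subset_closure ⟨hP, fun x => hP (P.normalizerMonoidHom n x).2, n, fun x => rfl⟩
  let f : N →* (groupFusionSystem (S : Subgroup G)).autGroup P :=
    P.normalizerMonoidHom.codRestrict _ hmem
  have hf : Function.Surjective f := by
    rintro ⟨β, hβ⟩
    obtain ⟨-, -, g, hg⟩ := (mem_autGroup_iff hP).1 hβ
    refine ⟨⟨g, mem_normalizer_of_apply fun x hx => ?_⟩, Subtype.ext (MulEquiv.ext fun x =>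
      Subtype.ext (hg x).symm)⟩
    have := (β ⟨x, hx⟩).2
    exact (hg ⟨x, hx⟩) ▸ this
  rw [← CfsgLib.Transfer.map_pResidual_of_surjective f hf] at hα
  obtain ⟨n, hn, rfl⟩ := hα
  exact ⟨n, CfsgLib.Transfer.map_subtype_pResidual_le N ⟨n, hn, rfl⟩, fun x => rfl⟩

theorem hyperfocal_le_pResidual (S : Sylow p G) :
    (groupFusionSystem (S : Subgroup G)).hyperfocalSubgroup p ≤
      (S : Subgroup G) ⊓ pResidual p G := by
  refine le_inf (hyperfocal_le _) ((Subgroup.closure_le _).2 ?_)
  rintro y ⟨P, α, x, hP, hα, rfl⟩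
  obtain ⟨g, hg, he⟩ := pResidual_autGroup_apply S hP hα
  show (x : G)⁻¹ * ((α : MulAut P) x : G) ∈ pResidual p G
  rw [he x, ← mul_assoc, ← mul_assoc]
  refine mul_mem ?_ (inv_mem hg)
  have hn : (pResidual p G).Normal := inferInstance
  simpa using hn.conj_mem g hg (x : G)⁻¹

/-- A Sylow subgroup of a group equal to its `p`-residual is its own hyperfocal subgroup. -/
theorem le_hyperfocal_of_pResidual_eq_top (S : Sylow p G) (h : pResidual p G = ⊤) :
    (S : Subgroup G) ≤ (groupFusionSystem (S : Subgroup G)).hyperfocalSubgroup p := by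
  set T := (groupFusionSystem (S : Subgroup G)).hyperfocalSubgroup p
  have hab : (S : Subgroup G) ≤ commutator G := by
    intro s hs
    by_contra hne
    -- the abelianization is its own `p`-residual, hence of order prime to `p`
    have hQ : ¬ p ∣ Nat.card (G ⧸ commutator G) := by
      intro hd
      have htop : pResidual p (G ⧸ commutator G) = ⊤ := by
        rw [← CfsgLib.Transfer.map_pResidual_of_surjective (QuotientGroup.mk' (commutator G))
          (QuotientGroup.mk'_surjective _), h,
          Subgroup.map_top_of_surjective _ (QuotientGroup.mk'_surjective _)]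
      let Q := G ⧸ commutator G
      obtain ⟨a, ha⟩ := exists_prime_orderOf_dvd_card' p hd
      have hclo : ∀ q : Q, (orderOf q).Coprime p := by
        intro q
        have hq : q ∈ Subgroup.closure {q : Q | (orderOf q).Coprime p} := by
          rw [show Subgroup.closure {q : Q | (orderOf q).Coprime p} = ⊤ from htop]
          trivial
        induction hq using Subgroup.closure_induction with
        | mem z hz => exact hz
        | one => simp
        | mul z w _ _ hz hw =>
          exact Nat.Coprime.coprime_dvd_left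
            ((Commute.orderOf_mul_dvd_mul_orderOf (show Commute z w by
              obtain ⟨a, rfl⟩ := QuotientGroup.mk'_surjective _ z
              obtain ⟨b, rfl⟩ := QuotientGroup.mk'_surjective _ w
              rw [Commute, SemiconjBy, ← map_mul, ← map_mul]
              refine QuotientGroup.eq.2 ?_
              have := Subgroup.commutator_mem_commutator (Subgroup.mem_top b⁻¹)
                (Subgroup.mem_top a⁻¹)
              simpa [commutator_def, commutatorElement_def, mul_assoc] using this))) (hz.mul_left hw)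
        | inv z _ hz => rwa [orderOf_inv]
      have := hclo a
      rw [ha, Nat.coprime_self] at this
      exact (Fact.out (p := p.Prime)).ne_one this
    obtain ⟨e, he⟩ := isPGroup_iff_pow_pow_eq_one.1 S.isPGroup' ⟨s, hs⟩
    obtain ⟨i, -, hi⟩ := (Nat.dvd_prime_pow Fact.out).1
      (orderOf_dvd_of_pow_eq_one (show (s : G ⧸ commutator G) ^ p ^ e = 1 by
        rw [← QuotientGroup.mk_pow, show s ^ p ^ e = 1 from congrArg Subtype.val he]
        rfl))
    rcases i with _ | i
    · exact hne ((QuotientGroup.eq_one_iff s).1 (orderOf_eq_one_iff.1 (by simpa using hi)))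
    · exact hQ ((dvd_pow_self p (Nat.succ_ne_zero i)).trans
        (hi ▸ orderOf_dvd_natCard (s : G ⧸ commutator G)))
  have hfoc : (S : Subgroup G) ≤ T ⊔ ⁅(S : Subgroup G), (S : Subgroup G)⁆ := by
    refine ((le_inf hab le_rfl).trans (Subgroup.commutator_inf_eq_focalSubgroup S).le).trans ?_
    rw [Subgroup.focalSubgroup_def, Subgroup.closure_le]
    rintro _ ⟨hyS, x, hx, u, rfl⟩
    have hz : u * x⁻¹ * u⁻¹ ∈ (S : Subgroup G) := by
      have := mul_mem (inv_mem hx) hyS
      simpa [commutatorElement_def, mul_assoc] using this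
    have hmem : conjHom (Subgroup.zpowers x⁻¹) u ∈
        (groupFusionSystem (S : Subgroup G)).Hom (Subgroup.zpowers x⁻¹) := by
      refine ⟨Subgroup.zpowers_le.2 (inv_mem hx), ?_, u, fun y => rfl⟩
      rintro ⟨_, k, rfl⟩
      show u * (x⁻¹) ^ k * u⁻¹ ∈ (S : Subgroup G)
      rw [← conj_zpow]
      exact zpow_mem hz k
    have := inv_mul_apply_mem S.isPGroup' (isSaturated_groupFusion S) hmem
      ⟨x⁻¹, Subgroup.mem_zpowers _⟩
    show x * u * x⁻¹ * u⁻¹ ∈ _
    have e : x * u * x⁻¹ * u⁻¹ = x⁻¹⁻¹ * (u * x⁻¹ * u⁻¹) := by group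
    rw [e]
    exact this
  -- `S` is nilpotent
  let T' := T.subgroupOf (S : Subgroup G)
  have hTn : T'.Normal := ⟨fun n hn g => Subgroup.mem_subgroupOf.2
    (hyperfocal_conj _ g.2 (Subgroup.mem_subgroupOf.1 hn))⟩
  have hT'top : T' ⊔ commutator (S : Subgroup G) = ⊤ := by
    apply Subgroup.map_injective (S : Subgroup G).subtype_injective
    rw [Subgroup.map_sup, Subgroup.map_subgroupOf_eq_of_le (hyperfocal_le _),
      Subgroup.map_subtype_commutator, ← MonoidHom.range_eq_map, Subgroup.range_subtype]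
    exact le_antisymm (sup_le (hyperfocal_le _) (Subgroup.commutator_le_self _)) hfoc
  by_contra hne
  have hnil : Group.IsNilpotent ((S : Subgroup G) ⧸ T') :=
    (S.isPGroup'.to_quotient T').isNilpotent
  have : Nontrivial ((S : Subgroup G) ⧸ T') := by
    by_contra hn
    rw [not_nontrivial_iff_subsingleton] at hn
    refine hne fun s hs => ?_
    have h1 : ((⟨s, hs⟩ : (S : Subgroup G)) : (S : Subgroup G) ⧸ T') = 1 := Subsingleton.elim _ _
    exact Subgroup.mem_subgroupOf.1 ((QuotientGroup.eq_one_iff _).1 h1)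
  refine (Group.IsSolvable.commutator_lt_top_of_nontrivial ((S : Subgroup G) ⧸ T')).ne ?_
  have h2 := congrArg (Subgroup.map (QuotientGroup.mk' T')) hT'top
  rw [Subgroup.map_sup, QuotientGroup.map_mk'_self, bot_sup_eq,
    Subgroup.map_top_of_surjective _ (QuotientGroup.mk'_surjective _), commutator_def,
    Subgroup.map_commutator, Subgroup.map_top_of_surjective _ (QuotientGroup.mk'_surjective _),
    ← commutator_def] at h2
  exact h2

end CfsgLib.FusionResidual
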