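/-
`O^p(F_S(G))` is the system of `O^p(G)` on `S ∩ O^p(G)`.
-/
import Cfsg.Agent.FusionResidual.Hyperfocal

set_option autoImplicit false

namespace CfsgLib.FusionResidual

open Cfsg Cfsg.FusionSystem CfsgLib.Fusion

variable {G : Type*} [Group G] {p : ℕ}

/-- A normal subgroup meets a Sylow subgroup in a Sylow subgroup. -/
theorem exists_sylow_inf [Finite G] [Fact p.Prime] (S : Sylow p G) (N : Subgroup G) [N.Normal] :
    ∃ T : Sylow p N, (T : Subgroup N) = (S : Subgroup G).subgroupOf N := by
  refine ⟨(S.isPGroup'.comap_subtype (K := N)).toSylow ?_, rfl⟩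
  exact CfsgLib.Transfer.not_dvd_relIndex_of_normal S N

/-- The system of `O^p(G)` on `S ∩ O^p(G)`. -/
def residualSystem (p : ℕ) (S : Subgroup G) : FusionSystem (S ⊓ pResidual p G) :=
  fusionSystemOfSubgroup (pResidual p G) (S ⊓ pResidual p G) inf_le_right

theorem residualSystem_isSubsystemOf (S : Subgroup G) :
    (residualSystem p S).IsSubsystemOf (groupFusionSystem S) := by
  rintro P φ ⟨hP, hφ, g, -, hg⟩
  exact ⟨hP.trans inf_le_left, fun x => (hφ x).1, g, hg⟩

theorem residualSystem_realized (S : Subgroup G) :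
    (residualSystem p S).IsRealizedBy
      (Subgroup.inclusion (inf_le_right : S ⊓ pResidual p G ≤ pResidual p G)) := by
  refine ⟨Subgroup.inclusion_injective _, fun P hP φ hφ => ⟨?_, ?_⟩⟩
  · rintro ⟨-, -, g, hg, he⟩
    exact ⟨⟨g, hg⟩, fun x => Subtype.ext (he x)⟩
  · rintro ⟨g, hg⟩
    exact ⟨hP, hφ, g, g.2, fun x => congrArg Subtype.val (hg x)⟩

variable [Finite G] [Fact p.Prime]

theorem residualSystem_isSaturated (S : Sylow p G) :
    (residualSystem p (S : Subgroup G)).IsSaturated p := by
  obtain ⟨T, hT⟩ := exists_sylow_inf S (pResidual p G)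
  refine isSaturated_of_realized (residualSystem_realized (S : Subgroup G)) T ?_
  rw [hT]
  ext x
  constructor
  · intro hx
    exact ⟨⟨x, hx, x.2⟩, rfl⟩
  · rintro ⟨y, rfl⟩
    exact y.2.1

theorem residual_le_autGroup (S : Sylow p G) {P : Subgroup G}
    (hP : P ≤ (S : Subgroup G) ⊓ pResidual p G) :
    (pResidual p ((groupFusionSystem (S : Subgroup G)).autGroup P)).map
      ((groupFusionSystem (S : Subgroup G)).autGroup P).subtype ≤
        (residualSystem p (S : Subgroup G)).autGroup P := by
  rintro _ ⟨α, hα, rfl⟩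
  obtain ⟨g, hg, he⟩ := pResidual_autGroup_apply S (hP.trans inf_le_left) hα
  exact Subgroup.subset_closure ⟨hP, fun x => hP ((α : MulAut P) x).2, g, hg, he⟩

/-- The hyperfocal subgroup theorem. -/
theorem hyperfocal_eq (S : Sylow p G) :
    (groupFusionSystem (S : Subgroup G)).hyperfocalSubgroup p =
      (S : Subgroup G) ⊓ pResidual p G := by
  refine le_antisymm (hyperfocal_le_pResidual S) fun x hx => ?_
  obtain ⟨T, hT⟩ := exists_sylow_inf S (pResidual p G)
  have hxT : (⟨x, hx.2⟩ : pResidual p G) ∈ (T : Subgroup (pResidual p G)) := by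
    rw [hT]; exact hx.1
  have hN := le_hyperfocal_of_pResidual_eq_top T CfsgLib.Transfer.pResidual_pResidual hxT
  suffices h : (groupFusionSystem (T : Subgroup (pResidual p G))).hyperfocalSubgroup p ≤
      ((groupFusionSystem (S : Subgroup G)).hyperfocalSubgroup p).comap
        (pResidual p G).subtype from h hN
  refine (Subgroup.closure_le _).2 ?_
  rintro _ ⟨P, α, z, hP, hα, rfl⟩
  let e := P.equivMapOfInjective (pResidual p G).subtype (pResidual p G).subtype_injective
  have hPS : P.map (pResidual p G).subtype ≤ (S : Subgroup G) := by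
    rintro _ ⟨y, hy, rfl⟩
    have := hP hy
    rw [hT] at this
    exact this
  have hmem : ∀ β : (groupFusionSystem (T : Subgroup (pResidual p G))).autGroup P,
      MulAut.congr e (β : MulAut P) ∈
        (groupFusionSystem (S : Subgroup G)).autGroup (P.map (pResidual p G).subtype) := by
    intro β
    obtain ⟨-, -, g, hg⟩ := (mem_autGroup_iff hP).1 β.2
    refine Subgroup.subset_closure
      ⟨hPS, fun y => hPS ((MulAut.congr e (β : MulAut P)) y).2, g, fun y => ?_⟩
    obtain ⟨y, rfl⟩ := e.surjective y
    show ((MulAut.congr e (β : MulAut P) (e y) : _) : G) = _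
    rw [congr_apply]
    exact congrArg Subtype.val (hg y)
  let f : (groupFusionSystem (T : Subgroup (pResidual p G))).autGroup P →*
      (groupFusionSystem (S : Subgroup G)).autGroup (P.map (pResidual p G).subtype) :=
    { toFun := fun β => ⟨MulAut.congr e (β : MulAut P), hmem β⟩
      map_one' := Subtype.ext (map_one (MulAut.congr e))
      map_mul' := fun a b => Subtype.ext (map_mul (MulAut.congr e) _ _) }
  refine Subgroup.subset_closure ⟨_, f α, e z, hPS, CfsgLib.Transfer.map_pResidual_le f ⟨α, hα, rfl⟩,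
    ?_⟩
  show _ = ((e z : _) : G)⁻¹ * ((MulAut.congr e (α : MulAut P) (e z) : _) : G)
  rw [congr_apply]
  rfl

/-- The `p`-residual subsystem of `F_S(G)`. -/
theorem pResidual_eq_residualSystem (S : Sylow p G)
    (E : FusionSystem ((groupFusionSystem (S : Subgroup G)).hyperfocalSubgroup p))
    (hE : (groupFusionSystem (S : Subgroup G)).IsPResidual p E) (P : Subgroup G) :
    E.Hom P = (residualSystem p (S : Subgroup G)).Hom P := by
  have heq := hyperfocal_eq S
  have hEp : IsPGroup p ((groupFusionSystem (S : Subgroup G)).hyperfocalSubgroup p) :=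
    S.isPGroup'.to_le (hyperfocal_le _)
  refine Set.Subset.antisymm
    (CfsgLib.FusionPIndex.isSubsystemOf_of_pResidual hEp hE.1 heq.le (fun Q hQ =>
      (CfsgLib.FusionPIndex.pResidual_autGroup_mono hE.2.1 hQ).trans
        (residual_le_autGroup S (hQ.trans heq.le))) P)
    (CfsgLib.FusionPIndex.isSubsystemOf_of_pResidual (S.isPGroup'.to_le inf_le_left)
      (residualSystem_isSaturated S) heq.ge (fun Q hQ =>
      (CfsgLib.FusionPIndex.pResidual_autGroup_mono (residualSystem_isSubsystemOf _) hQ).trans
        (hE.2.2.2 Q (hQ.trans heq.ge))) P)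

end CfsgLib.FusionResidual
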